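import Cfsg.Agent.H735.PairCross

/-!
# `PairRow` from one `VZ` element of prime power order (helper723)

* `pairRow_of_elts` : all automorphisms of `S` are inner, `x` is a `VZ` element of order a power of `ℓ`, and for every
  prime `q ≠ ℓ` dividing `#S` some `q`-element has a centralizer of order prime to `ℓ`;
* `exists_prod` : two conjugates of `d` with product in a given subgroup of order larger than `#C(d)`;
* `not_dvd_of_transp` : classes of involutions in which the products of two elements have order at most four;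
* `not_dvd_of_value` : a prime `ℓ ∥ #S` dividing `χ(1)` but not `χ(w)` does not divide `#C(w)`.
-/

set_option autoImplicit false

namespace Cfsg.Agent.H723.Pair

open Cfsg Cfsg.Agent.H713 Cfsg.Agent.H730.Pair Cfsg.Agent.H735.PairCross Subgroup
open Cfsg.Agent.Characters.Core
open scoped Pointwise

universe u

/-- A `q`-element which does not commute with any conjugate of `x` shows that `q` divides the class size of `x`. -/
theorem dvd_index_of_elt {S : Type u} [Group S] [Finite S] {q : ℕ} [hq : Fact q.Prime] {x w : S} {j : ℕ}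
    (hw : orderOf w = q ^ j) (h : ∀ g : S, g * x * g⁻¹ * w ≠ w * (g * x * g⁻¹)) :
    q ∣ (centralizer ({x} : Set S)).index := by
  by_contra hcon
  obtain ⟨Q⟩ := (inferInstance : Nonempty (Sylow q ↥(centralizer ({x} : Set S))))
  have h1 : ¬ q ∣ ((Q : Subgroup _).map (centralizer ({x} : Set S)).subtype).index := by
    rw [Subgroup.index_map_subtype]
    intro hd
    rcases hq.1.dvd_mul.1 hd with h2 | h2
    · exact Q.not_dvd_index h2
    · exact hcon h2
  have h2 : IsPGroup q ((Q : Subgroup _).map (centralizer ({x} : Set S)).subtype) := Q.2.map _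
  have hwq : IsPGroup q (zpowers w) := by
    rw [IsPGroup.iff_card]
    exact ⟨j, by rw [Nat.card_zpowers, hw]⟩
  obtain ⟨R, hR⟩ := hwq.exists_le_sylow
  obtain ⟨g, hg⟩ := MulAction.exists_smul_eq S (h2.toSylow h1) R
  have h3 : w ∈ (g • h2.toSylow h1 : Sylow q S) := by rw [hg]; exact hR (mem_zpowers w)
  have h4 : g⁻¹ * w * g ∈ centralizer ({x} : Set S) := by
    have h5 : w ∈ MulAut.conj g • ((Q : Subgroup _).map (centralizer ({x} : Set S)).subtype) := h3
    rw [Subgroup.mem_pointwise_smul_iff_inv_smul_mem] at h5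
    obtain ⟨c, -, hc⟩ := h5
    have h6 : g⁻¹ * w * g = c := by
      have h7 : (MulAut.conj g)⁻¹ • w = g⁻¹ * w * g := by
        simp [MulAut.smul_def, mul_assoc]
      rw [← h7, ← hc]
      rfl
    rw [h6]
    exact c.2
  rw [mem_centralizer_singleton_iff] at h4
  apply h g
  calc g * x * g⁻¹ * w = g * (x * (g⁻¹ * w * g)) * g⁻¹ := by group
    _ = g * (g⁻¹ * w * g * x) * g⁻¹ := by rw [← h4]
    _ = w * (g * x * g⁻¹) := by group

theorem pairRow_of_elts {S : Type u} [Group S] [Finite S] [IsSimpleGroup S] (hna : ∃ a b : S, a * b ≠ b * a)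
    (hout : ∀ β : MulAut S, ∃ s : S, β = MulAut.conj s) {ℓ : ℕ} [hl : Fact ℓ.Prime] {x : S} {k : ℕ}
    (hx : orderOf x = ℓ ^ k) (hx1 : x ≠ 1) (hvz : VZ S x)
    (hw : ∀ q : ℕ, q.Prime → q ∣ Nat.card S → q ≠ ℓ →
      ∃ (w : S) (j : ℕ), orderOf w = q ^ j ∧ ¬ ℓ ∣ Nat.card (centralizer ({w} : Set S))) : PairRow S := by
  have key : ∀ w g : S, ¬ ℓ ∣ Nat.card (centralizer ({w} : Set S)) →
      g * x * g⁻¹ * w ≠ w * (g * x * g⁻¹) := by
    intro w g hd h
    apply hd
    have h1 : g * x * g⁻¹ ∈ centralizer ({w} : Set S) := by rw [mem_centralizer_singleton_iff]; exact h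
    have h2 : orderOf (g * x * g⁻¹) = ℓ ^ k := by
      rw [← hx]
      exact (MulAut.conj g).orderOf_eq x
    have h3 := Subgroup.orderOf_dvd_natCard _ h1
    rw [h2] at h3
    have hk : k ≠ 0 := by
      rintro rfl
      rw [pow_zero, orderOf_eq_one_iff] at hx
      exact hx1 hx
    exact (dvd_pow_self ℓ hk).trans h3
  have hidx : ∀ q : ℕ, q.Prime → q ∣ Nat.card S → q ≠ ℓ → q ∣ (centralizer ({x} : Set S)).index := by
    intro q hq hd hne
    have : Fact q.Prime := ⟨hq⟩
    obtain ⟨w, j, hwj, hwl⟩ := hw q hq hd hne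
    exact dvd_index_of_elt hwj fun g => key w g hwl
  have hcr : ∀ q : ℕ, q.Prime → q ∣ Nat.card S → q ≠ ℓ → Ok S ℓ q := by
    intro q hq hd hne
    have : Fact q.Prime := ⟨hq⟩
    obtain ⟨w, j, hwj, hwl⟩ := hw q hq hd hne
    refine Ok.cross hna hout hx hwj ?_
    intro a b ha hb hab
    obtain ⟨c, rfl⟩ := isConj_iff.1 ha.symm
    obtain ⟨d, rfl⟩ := isConj_iff.1 hb.symm
    refine key w (d⁻¹ * c) hwl ?_
    have h1 : c * x * c⁻¹ * (d * w * d⁻¹) = d * w * d⁻¹ * (c * x * c⁻¹) := hab
    calc d⁻¹ * c * x * (d⁻¹ * c)⁻¹ * w = d⁻¹ * (c * x * c⁻¹ * (d * w * d⁻¹)) * d := by group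
      _ = d⁻¹ * (d * w * d⁻¹ * (c * x * c⁻¹)) * d := by rw [h1]
      _ = w * (d⁻¹ * c * x * (d⁻¹ * c)⁻¹) := by group
  intro p q hp hq hpq hpS hqS
  by_cases h1 : p = ℓ
  · subst h1
    exact hcr q hq hqS (Ne.symm hpq)
  · by_cases h2 : q = ℓ
    · subst h2
      exact (hcr p hp hpS hpq).symm
    · exact ⟨x, hvz, hidx p hp hpS h1, hidx q hq hqS h2⟩

/-- Two conjugates of `d` whose quotient lies in the subgroup `Q`, if `#Q` is larger than `#C(d)`. -/
theorem exists_prod {X : Type*} [Group X] [Finite X] (d : X) (Q : Subgroup X)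
    (h : Nat.card (centralizer ({d} : Set X)) < Nat.card Q) :
    ∃ a b : X, IsConj d a ∧ IsConj d b ∧ a ≠ b ∧ a⁻¹ * b ∈ Q := by
  classical
  by_contra hcon
  push Not at hcon
  have hinj : Function.Injective (fun a : {a : X // IsConj d a} => (QuotientGroup.mk a.1 : X ⧸ Q)) := by
    intro a b hab
    by_contra hne
    exact hcon a.1 b.1 a.2 b.2 (fun h => hne (Subtype.ext h)) (QuotientGroup.eq.1 hab)
  have h1 : Nat.card {a : X // IsConj d a} ≤ Nat.card (X ⧸ Q) := Nat.card_le_card_of_injective _ hinj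
  have h2 : Nat.card {a : X // IsConj d a} * Nat.card (centralizer ({d} : Set X)) = Nat.card X := by
    have e1 : Nat.card {a : X // IsConj d a} = Nat.card (MulAction.orbit (ConjAct X) d) := by
      rw [ConjAct.orbit_eq_carrier_conjClasses]
      refine Nat.card_congr (Equiv.subtypeEquivRight fun a => ?_)
      rw [ConjClasses.mem_carrier_iff_mk_eq, ConjClasses.mk_eq_mk_iff_isConj]
      exact isConj_comm
    have e2 : Nat.card (centralizer ({d} : Set X)) = Nat.card (MulAction.stabilizer (ConjAct X) d) := by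
      rw [ConjAct.stabilizer_eq_centralizer]
      rfl
    rw [e1, e2, ← Nat.card_prod]
    exact Nat.card_congr (MulAction.orbitProdStabilizerEquivGroup (ConjAct X) d)
  have h3 := Q.card_mul_index
  have h4 : Q.index = Nat.card (X ⧸ Q) := rfl
  have h5 : 0 < Nat.card (X ⧸ Q) := Nat.card_pos
  rw [← h4] at h1 h5
  have h6 : Nat.card X ≤ Q.index * Nat.card (centralizer ({d} : Set X)) := by
    rw [← h2]; exact Nat.mul_le_mul_right _ h1
  have h7 : Q.index * Nat.card (centralizer ({d} : Set X)) < Q.index * Nat.card Q :=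
    Nat.mul_lt_mul_of_pos_left h h5
  rw [mul_comm Q.index (Nat.card Q), h3] at h7
  omega

/-- Classes of involutions in which the products of two elements have order at most four. -/
theorem not_dvd_of_transp {S : Type*} [Group S] [Finite S] {d w : S} (hdd : d * d = 1)
    (hprod : ∀ a b : S, IsConj d a → IsConj d b → orderOf (a * b) ≤ 4) {r l : ℕ} (hr : r.Prime) (hr5 : 5 ≤ r)
    (hw : orderOf w = r) (hdw : d * w = w * d) (hl : l.Prime) (hl5 : 5 ≤ l) (hlr : l ≠ r)
    (hcard : Nat.card ↥(centralizer ({d} : Set S) ⊓ centralizer ({w} : Set S)) < l * r) :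
    ¬ l ∣ Nat.card (centralizer ({w} : Set S)) := by
  intro hd
  have : Fact l.Prime := ⟨hl⟩
  obtain ⟨v, hv⟩ := exists_prime_orderOf_dvd_card' (G := ↥(centralizer ({w} : Set S))) l hd
  obtain ⟨w', hw'⟩ : ∃ w' : ↥(centralizer ({w} : Set S)), w' = ⟨w, mem_centralizer_singleton_iff.2 rfl⟩ := ⟨_, rfl⟩
  obtain ⟨d', hd'⟩ : ∃ d' : ↥(centralizer ({w} : Set S)), d' = ⟨d, mem_centralizer_singleton_iff.2 hdw⟩ := ⟨_, rfl⟩
  have hw'o : orderOf w' = r := by rw [← hw, hw', Subgroup.orderOf_mk]
  have hcomm : Commute v w' := by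
    apply Subtype.ext
    rw [hw']
    exact mem_centralizer_singleton_iff.1 v.2
  have hvw : orderOf (v * w') = l * r := by
    rw [← hv, ← hw'o]
    refine hcomm.orderOf_mul_eq_mul_orderOf_of_coprime ?_
    rw [hv, hw'o]
    exact (Nat.coprime_primes hl hr).2 hlr
  have hc : Nat.card (centralizer ({d'} : Set ↥(centralizer ({w} : Set S)))) ≤
      Nat.card ↥(centralizer ({d} : Set S) ⊓ centralizer ({w} : Set S)) := by
    let f : centralizer ({d'} : Set ↥(centralizer ({w} : Set S))) →
        ↥(centralizer ({d} : Set S) ⊓ centralizer ({w} : Set S)) := fun a =>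
      ⟨a.1.1, mem_inf.2 ⟨mem_centralizer_singleton_iff.2 (by
        have h1 : ((a.1 : ↥(centralizer ({w} : Set S))) * d' : ↥(centralizer ({w} : Set S))) = d' * a.1 :=
          mem_centralizer_singleton_iff.1 a.2
        have h2 := congrArg Subtype.val h1
        have h3 : (d' : S) = d := by rw [hd']
        rw [Subgroup.coe_mul, Subgroup.coe_mul, h3] at h2
        exact h2), a.1.2⟩⟩
    refine Nat.card_le_card_of_injective f ?_
    intro a b hab
    exact Subtype.ext (Subtype.ext (congrArg (fun z => z.1) hab))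
  obtain ⟨a, b, ha, hb, hne, hab⟩ := exists_prod d' (zpowers (v * w')) (by
    rw [Nat.card_zpowers, hvw]
    exact lt_of_le_of_lt hc hcard)
  have hda : ∀ {e : ↥(centralizer ({w} : Set S))}, IsConj d' e → IsConj d (e : S) := by
    intro e he
    have h1 := (centralizer ({w} : Set S)).subtype.map_isConj he
    rw [hd'] at h1
    exact h1
  have haa : a * a = 1 := by
    obtain ⟨c, rfl⟩ := isConj_iff.1 ha
    have h1 : d' * d' = 1 := by
      apply Subtype.ext
      rw [hd']
      exact hdd
    calc c * d' * c⁻¹ * (c * d' * c⁻¹) = c * (d' * d') * c⁻¹ := by group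
      _ = 1 := by rw [h1]; group
  have ha' : a⁻¹ = a := inv_eq_of_mul_eq_one_left haa
  rw [ha'] at hab
  have h1 : orderOf (a * b) ∣ l * r := by
    rw [← hvw]
    exact orderOf_dvd_of_mem_zpowers hab
  have h2 : orderOf (a * b) ≤ 4 := by
    have h3 := hprod (a : S) (b : S) (hda ha) (hda hb)
    have h4 : orderOf (a * b) = orderOf ((a : S) * (b : S)) :=
      (orderOf_injective (centralizer ({w} : Set S)).subtype (Subgroup.subtype_injective _) (a * b)).symm
    rw [h4]
    exact h3
  have h3 : orderOf (a * b) ≠ 1 := by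
    intro h4
    rw [orderOf_eq_one_iff] at h4
    apply hne
    calc a = a * (a * b) := by rw [h4, mul_one]
      _ = b := by rw [← mul_assoc, haa, one_mul]
  have h4 : (orderOf (a * b)).minFac.Prime := Nat.minFac_prime h3
  have h5 := (Nat.minFac_dvd (orderOf (a * b))).trans h1
  have h6 : (orderOf (a * b)).minFac ≤ 4 :=
    (Nat.le_of_dvd (orderOf_pos _) (Nat.minFac_dvd _)).trans h2
  rcases h4.dvd_mul.1 h5 with h7 | h7
  · rw [(Nat.prime_dvd_prime_iff_eq h4 hl).1 h7] at h6
    omega
  · rw [(Nat.prime_dvd_prime_iff_eq h4 hr).1 h7] at h6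
    omega

/-- A rational value of an irreducible character. -/
theorem dvd_value {S : Type*} [Group S] [Finite S] {χ : S → ℂ} (hχ : IsIrrCharacter S χ) {n : ℕ} (h1 : χ 1 = n)
    {l : ℕ} (hl : l.Prime) (hln : l ∣ n) (hlS : ¬ l * l ∣ Nat.card S) {w : S} {a : ℤ} (ha : χ w = a)
    (hd : l ∣ Nat.card (centralizer ({w} : Set S))) : (l : ℤ) ∣ a := by
  have h2 := Cfsg.Agent.Blocks.Central.isIntegral_centralChar hχ w
  have hn0 : (n : ℂ) ≠ 0 := by
    rw [← h1]
    exact isIrr_apply_one_ne_zero hχ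
  have hidx : ¬ l ∣ (centralizer ({w} : Set S)).index := by
    intro h3
    apply hlS
    rw [← (centralizer ({w} : Set S)).card_mul_index]
    exact mul_dvd_mul hd h3
  unfold centralChar at h2
  rw [h1, ha] at h2
  have hn0' : (n : ℚ) ≠ 0 := by
    intro h
    apply hn0
    exact_mod_cast h
  have h3 : IsIntegral ℤ ((((centralizer ({w} : Set S)).index : ℚ) * a / n : ℚ)) := by
    rw [← isIntegral_algebraMap_iff (B := ℂ) (algebraMap ℚ ℂ).injective]
    convert h2 using 1
    push_cast
    simp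
  obtain ⟨m, hm⟩ := IsIntegrallyClosed.isIntegral_iff.1 h3
  have h4 : (m : ℚ) * n = ((centralizer ({w} : Set S)).index : ℚ) * a := by
    have h5 : (m : ℚ) = ((centralizer ({w} : Set S)).index : ℚ) * a / n := by
      rw [← hm]; simp
    rw [h5]
    field_simp
  have h5 : m * (n : ℤ) = ((centralizer ({w} : Set S)).index : ℤ) * a := by exact_mod_cast h4
  have h6 : (l : ℤ) ∣ ((centralizer ({w} : Set S)).index : ℤ) * a := by
    rw [← h5]
    exact (Int.natCast_dvd_natCast.2 hln).mul_left m
  rcases (Nat.prime_iff_prime_int.1 hl).dvd_or_dvd h6 with h7 | h7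
  · exact absurd (Int.natCast_dvd_natCast.1 h7) hidx
  · exact h7

end Cfsg.Agent.H723.Pair
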