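import Cfsg.Agent.BabyComp.Sec
import Cfsg.Agent.H129.CycCard
import Cfsg.Agent.H129.CycRow
import Cfsg.Agent.H723.Pair.Tool

/-!
# Elements of `C(t)`, `C(t) = 2.E.2` (helper723)
-/

set_option autoImplicit false
set_option linter.unusedSectionVars false

namespace Cfsg.Agent.H723.Pair.BSec

open Subgroup Cfsg Cfsg.Agent.BabyComp

theorem card_eq_mul {A B : Type*} [Group A] [Finite A] [Group B] (f : A →* B) :
    Nat.card A = Nat.card f.range * Nat.card f.ker := by
  rw [Subgroup.card_eq_card_quotient_mul_card_subgroup f.ker]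
  congr 1
  exact Nat.card_congr (QuotientGroup.quotientKerEquivRange f).toEquiv

theorem card_le_of_cyc {E : Type*} [Group E] [Finite E] {r m d : ℕ} (hr : r.Prime) (hm : 0 < m)
    (h : Cfsg.Agent.H129.CycCard.CycCard E r m d) {y : E} (hy : orderOf y = r) :
    Nat.card (centralizer ({y} : Set E)) ≤ m := by
  obtain ⟨T, h1, h2, h3, h4, h5⟩ := h
  obtain ⟨f, hf⟩ := Cfsg.Agent.H129.CycT.exists_hom h1 hr h4 h5 hy
  rw [Nat.card_congr (Equiv.ofBijective f hf)]
  exact Nat.le_of_dvd hm h2

variable {X E : Type*} [Group X] [Finite X] [Group E] [Finite E] {t : X} {X₀ : Subgroup X} {σ : ↥X₀ →* E}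

theorem card_ker (H : Sec.Data t σ) : Nat.card σ.ker = 2 := by
  classical
  have h1 : Nat.card σ.ker = Nat.card (Bool) := by
    refine Nat.card_congr (Equiv.ofBijective (fun a : σ.ker => decide ((a.1 : X) = 1)) ⟨?_, ?_⟩)
    · intro a b h
      have ha := (H.ker a.1).1 a.2
      have hb := (H.ker b.1).1 b.2
      have h' : ((a.1 : X) = 1) ↔ ((b.1 : X) = 1) := by simpa using h
      apply Subtype.ext
      apply Subtype.ext
      rcases ha with ha | ha
      · rw [ha, h'.1 ha]
      · rcases hb with hb | hb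
        · exact absurd (ha.symm.trans (h'.2 hb)) H.t_ne
        · rw [ha, hb]
    · rintro (_ | _)
      · refine ⟨⟨⟨t, H.mem⟩, (H.ker _).2 (Or.inr rfl)⟩, ?_⟩
        simpa using H.t_ne
      · exact ⟨1, by simp⟩
  rw [h1]
  simp

theorem card_X₀ (H : Sec.Data t σ) : Nat.card X₀ = Nat.card E * 2 := by
  rw [card_eq_mul σ, card_ker H, MonoidHom.range_eq_top.2 H.surj, card_top]

/-- Elements of `X₀` of odd prime order and their centralizers in `C(t)`. -/
theorem exists_elt (H : Sec.Data t σ) (hcard : Nat.card (centralizer ({t} : Set X)) = 4 * Nat.card E) {r m : ℕ}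
    (hr : r.Prime) (hr2 : r ≠ 2) (hrE : r ∣ Nat.card E)
    (hC : ∀ y : E, orderOf y = r → Nat.card (centralizer ({y} : Set E)) ≤ m) :
    ∃ w : X, orderOf w = r ∧ t * w = w * t ∧
      Nat.card ↥(centralizer ({t} : Set X) ⊓ centralizer ({w} : Set X)) ≤ 4 * m := by
  have : Fact r.Prime := ⟨hr⟩
  obtain ⟨w, hw⟩ := exists_prime_orderOf_dvd_card' (G := ↥X₀) r (by rw [card_X₀ H]; exact hrE.mul_right 2)
  have hσw : orderOf (σ w) = r := by
    refine orderOf_eq_prime (by rw [← map_pow, ← hw, pow_orderOf_eq_one, map_one]) ?_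
    intro h1
    rcases (H.ker w).1 h1 with h2 | h2
    · have h3 : w = 1 := Subtype.ext h2
      rw [h3, orderOf_one] at hw
      exact hr.one_lt.ne hw
    · have h3 : w * w = 1 := Subtype.ext (by
        show (w : X) * w = 1
        rw [h2, H.t_sq])
      have h4 : r ∣ 2 := by
        rw [← hw]
        exact orderOf_dvd_of_pow_eq_one (by rw [pow_two, h3])
      exact hr2 ((Nat.prime_dvd_prime_iff_eq hr Nat.prime_two).1 h4)
  refine ⟨w, by rw [Subgroup.orderOf_coe, hw], (H.comm w w.2).symm, ?_⟩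
  -- the part in `X₀`
  obtain ⟨L, hL⟩ : ∃ L : Subgroup X, L = centralizer ({t} : Set X) ⊓ centralizer ({(w : X)} : Set X) := ⟨_, rfl⟩
  rw [← hL]
  obtain ⟨N, hN⟩ : ∃ N : Subgroup ↥X₀, N = centralizer ({w} : Set ↥X₀) := ⟨_, rfl⟩
  have h1 : Nat.card (σ.comp N.subtype).range ≤ m := by
    refine (Nat.card_le_card_of_injective (β := ↥(centralizer ({σ w} : Set E)))
      (fun y => ⟨y.1, ?_⟩) ?_).trans (hC _ hσw)
    · obtain ⟨n, hn⟩ := y.2
      rw [← hn, mem_centralizer_singleton_iff]
      have h2 : (n : ↥X₀) * w = w * n := by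
        have h3 : (n : ↥X₀) ∈ centralizer ({w} : Set ↥X₀) := hN ▸ n.2
        exact mem_centralizer_singleton_iff.1 h3
      show σ (n : ↥X₀) * σ w = σ w * σ (n : ↥X₀)
      rw [← map_mul, ← map_mul, h2]
    · intro a b hab
      exact Subtype.ext (congrArg (fun z : ↥(centralizer ({σ w} : Set E)) => (z : E)) hab)
  have h2 : Nat.card (σ.comp N.subtype).ker ≤ 2 := by
    rw [← card_ker H]
    refine Nat.card_le_card_of_injective (fun a => ⟨(a.1 : ↥X₀), a.2⟩) ?_
    intro a b hab
    exact Subtype.ext (Subtype.ext (congrArg (fun z => z.1) hab))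
  have h3 : Nat.card N ≤ m * 2 := by
    rw [card_eq_mul (σ.comp N.subtype)]
    exact Nat.mul_le_mul h1 h2
  have h4 : Nat.card (X₀.subgroupOf L) ≤ m * 2 := by
    refine (Nat.card_le_card_of_injective (β := ↥N) (fun a => ⟨⟨(a.1 : X), a.2⟩, ?_⟩) ?_).trans h3
    · rw [hN, mem_centralizer_singleton_iff]
      apply Subtype.ext
      have h5 : (a.1 : X) ∈ centralizer ({t} : Set X) ⊓ centralizer ({(w : X)} : Set X) := by
        rw [← hL]
        exact a.1.2
      exact mem_centralizer_singleton_iff.1 (mem_inf.1 h5).2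
    · intro a b hab
      exact Subtype.ext (Subtype.ext (congrArg (fun z : ↥N => ((z : ↥X₀) : X)) hab))
  have hle : X₀ ≤ centralizer ({t} : Set X) := fun x hx => mem_centralizer_singleton_iff.2 (H.comm x hx)
  have h5 : X₀.relIndex (centralizer ({t} : Set X)) = 2 := by
    have h6 := (X₀.subgroupOf (centralizer ({t} : Set X))).card_mul_index
    rw [hcard, Nat.card_congr (subgroupOfEquivOfLe hle).toEquiv, card_X₀ H] at h6
    have h7 : 0 < Nat.card E := Nat.card_pos
    have h8 : X₀.relIndex (centralizer ({t} : Set X)) * (Nat.card E * 2) = 2 * (Nat.card E * 2) := by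
      unfold relIndex
      rw [mul_comm, h6]; ring
    exact Nat.eq_of_mul_eq_mul_right (by positivity) h8
  have h6 : X₀.relIndex L ≤ 2 := by
    rw [← h5]
    refine relIndex_le_of_le_right ?_ (by rw [h5]; norm_num)
    rw [hL]
    exact inf_le_left
  have h7 : Nat.card L = Nat.card (X₀.subgroupOf L) * X₀.relIndex L := (card_mul_index _).symm
  rw [h7]
  calc Nat.card (X₀.subgroupOf L) * X₀.relIndex L ≤ (m * 2) * 2 := Nat.mul_le_mul h4 h6
    _ = 4 * m := by ring

end Cfsg.Agent.H723.Pair.BSec
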