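import Mathlib

/-!
# Complexification of rational representations on coordinate spaces (helper723)
-/

set_option autoImplicit false

namespace Cfsg.Agent.H723.Pair

/-- A rational representation on a coordinate space, over the complex numbers. -/
theorem exists_complex {G : Type*} [Group G] {ι : Type*} [Fintype ι] [DecidableEq ι] {n : ℕ}
    (hn : Fintype.card ι = n) (f : G →* Module.End ℚ (ι → ℚ)) :
    ∃ ρ : Representation ℂ G (Fin n → ℂ),
      (∀ g, ρ.character g = ((LinearMap.trace ℚ (ι → ℚ) (f g) : ℚ) : ℂ)) ∧ ∀ g, ρ g = 1 → f g = 1 := by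
  classical
  let e : ι ≃ Fin n := Fintype.equivFinOfCardEq hn
  let A : Module.End ℚ (ι → ℚ) →* Matrix ι ι ℚ :=
    (LinearMap.toMatrixAlgEquiv' : Module.End ℚ (ι → ℚ) ≃ₐ[ℚ] Matrix ι ι ℚ)
  let B : Matrix ι ι ℚ →* Matrix ι ι ℂ := (RingHom.mapMatrix (algebraMap ℚ ℂ) : Matrix ι ι ℚ →+* Matrix ι ι ℂ)
  let C : Matrix ι ι ℂ →* Matrix (Fin n) (Fin n) ℂ := (Matrix.reindexAlgEquiv ℂ ℂ e)
  let D : Matrix (Fin n) (Fin n) ℂ →* Module.End ℂ (Fin n → ℂ) :=
    (Matrix.toLinAlgEquiv' : Matrix (Fin n) (Fin n) ℂ ≃ₐ[ℂ] Module.End ℂ (Fin n → ℂ))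
  have hA : Function.Injective A := (LinearMap.toMatrixAlgEquiv' : Module.End ℚ (ι → ℚ) ≃ₐ[ℚ] Matrix ι ι ℚ).injective
  have hB : Function.Injective B := by
    intro a b h
    ext i j
    have h1 : (algebraMap ℚ ℂ) (a i j) = (algebraMap ℚ ℂ) (b i j) := congrFun (congrFun h i) j
    exact (algebraMap ℚ ℂ).injective h1
  have hC : Function.Injective C := (Matrix.reindexAlgEquiv ℂ ℂ e).injective
  have hD : Function.Injective D :=
    (Matrix.toLinAlgEquiv' : Matrix (Fin n) (Fin n) ℂ ≃ₐ[ℂ] Module.End ℂ (Fin n → ℂ)).injective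
  refine ⟨(D.comp (C.comp (B.comp A))).comp f, fun g => ?_, fun g hg => ?_⟩
  · show LinearMap.trace ℂ (Fin n → ℂ) (Matrix.toLin' (Matrix.reindex e e ((LinearMap.toMatrix' (f g)).map
      (algebraMap ℚ ℂ)))) = _
    rw [Matrix.trace_toLin'_eq]
    have h1 : Matrix.trace (Matrix.reindex e e ((LinearMap.toMatrix' (f g)).map (algebraMap ℚ ℂ))) =
        Matrix.trace ((LinearMap.toMatrix' (f g)).map (algebraMap ℚ ℂ)) := by
      unfold Matrix.trace
      refine Fintype.sum_equiv e.symm _ _ fun i => rfl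
    rw [h1]
    have h2 : LinearMap.trace ℚ (ι → ℚ) (f g) = Matrix.trace (LinearMap.toMatrix' (f g)) := by
      rw [LinearMap.trace_eq_matrix_trace ℚ (Pi.basisFun ℚ ι)]
      congr 1
    rw [h2]
    unfold Matrix.trace
    push_cast
    rfl
  · apply hA
    apply hB
    apply hC
    apply hD
    rw [map_one A, map_one B, map_one C, map_one D]
    exact hg

end Cfsg.Agent.H723.Pair
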