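import Cfsg.Agent.H863.BMin
import Cfsg.Prelude.Def_Characters
import Cfsg.Agent.H723.Pair.Complex
import Cfsg.Agent.CharactersDeep.InvRep

/-!
# The character of degree 4371 of the Baby Monster (helper723)
-/

set_option autoImplicit false

namespace Cfsg.Agent.H723.Pair.BChar

open Cfsg Cfsg.Agent.BabyM.Conc Cfsg.Agent.BabyM Cfsg.Agent.Monster.VecSpace Cfsg.Agent.H863.BRep
open Cfsg.Agent.H863.BGL

/-- The rational representation of the group of the model. -/
noncomputable def nat : G →* Module.End ℚ V where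
  toFun g := ((g : V ≃ₗ[ℚ] V) : V →ₗ[ℚ] V)
  map_one' := rfl
  map_mul' _ _ := rfl

theorem nat_apply (g : G) : nat g = ((g : V ≃ₗ[ℚ] V) : V →ₗ[ℚ] V) := rfl

theorem exists_chi : ∃ χ : Spor.BabyMonster → ℂ, IsIrrCharacter Spor.BabyMonster χ ∧ χ 1 = (4371 : ℕ) ∧
    ∀ g : G, χ (iso.symm g) = ((LinearMap.trace ℚ V ((g : V ≃ₗ[ℚ] V) : V →ₗ[ℚ] V) : ℚ) : ℂ) := by
  obtain ⟨ρ, h1, h2⟩ := exists_complex card_lane (nat.comp iso.toMonoidHom)
  refine ⟨ρ.character, ⟨4371, ρ, ?_, rfl⟩, ?_, fun g => ?_⟩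
  · rw [Cfsg.Agent.CharactersDeep.InvRep.isIrreducible_iff]
    refine ⟨inferInstance, fun N hN => ?_⟩
    refine Cfsg.Agent.H863.BMin.irreducible_of_degree (F := ℂ) two_ne_zero ρ ?_ ?_ N hN
    · intro h
      have h3 := h2 (iso.symm (gE .z)) (by rw [h]; rfl)
      apply Cfsg.Agent.H863.BFin.z_ne
      have h4 : nat (gE .z) = 1 := by
        have h5 : nat (iso (iso.symm (gE .z))) = 1 := h3
        rwa [MulEquiv.apply_symm_apply] at h5
      apply Subtype.ext
      apply LinearEquiv.toLinearMap_injective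
      exact h4
    · rw [Module.finrank_fin_fun]
  · rw [h1]
    have h3 : (nat.comp iso.toMonoidHom) 1 = 1 := map_one _
    rw [h3, LinearMap.trace_one, finrank_eq]
    norm_num
  · rw [h1]
    show ((LinearMap.trace ℚ V (nat (iso (iso.symm g))) : ℚ) : ℂ) = _
    rw [MulEquiv.apply_symm_apply]
    rfl

end Cfsg.Agent.H723.Pair.BChar
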