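import Cfsg.Agent.H723.Pair.BCent
import Cfsg.Agent.H723.Pair.BChar
import Cfsg.Agent.H723.Pair.Tool
import Cfsg.Agent.H568.TriPair
import Cfsg.Agent.H149.Sp.Baby
import Cfsg.Agent.H713.Spor.B
import Cfsg.Agent.OrdDiv.Table

/-!
# `PairRow` for the Baby Monster (helper723), with the classification as a hypothesis

The elements of orders 47 and 31 (no element of order `31 · 47`) and the element of order 22 with centralizer of order
dividing `2^41 3^6 5^3 7 11` on which the character of degree 4371 vanishes. The value of that character at an element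
of order 11 is 4.
-/

set_option autoImplicit false
set_option maxRecDepth 100000

namespace Cfsg.Agent.H723.Pair.B

open Subgroup Cfsg Cfsg.Agent.OrdDiv Cfsg.Agent.H713 Cfsg.Agent.H730.Pair Cfsg.Agent.H966
open Cfsg.Agent.H163.PG Cfsg.Agent.H393.Iso Cfsg.Agent.H149.Sp Cfsg.Agent.H568
open Cfsg.Agent.H713.Spor.B (card_b)
open Cfsg.Agent.H863.BGL (iso)

theorem ok_31_47 : TriPair.secOK [(2,41),(3,13),(5,6),(7,2),(11,1),(13,1),(17,1),(19,1),(23,1),(31,1),(47,1)]
    4154781481226426191177580544000000 31 47 = true := by decide +kernel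

/-- the element of order 11 -/
noncomputable def u : Spor.BabyMonster := iso.symm BCent.uG

/-- the element of order 22 -/
noncomputable def w : Spor.BabyMonster := iso.symm BCent.wG

theorem orderOf_u : orderOf u = 11 := by
  rw [u, MulEquiv.orderOf_eq, BCent.orderOf_uG]

theorem card_centralizer_symm {G H : Type*} [Group G] [Group H] (e : G ≃* H) (g : H) :
    Nat.card (centralizer ({e.symm g} : Set G)) = Nat.card (centralizer ({g} : Set H)) := by
  refine Nat.card_congr (Equiv.subtypeEquiv e.toEquiv ?_)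
  intro a
  rw [mem_centralizer_singleton_iff, mem_centralizer_singleton_iff]
  show _ ↔ e a * g = g * e a
  rw [← e.injective.eq_iff, map_mul, map_mul, e.apply_symm_apply]

theorem card_cent_w : Nat.card (centralizer ({w} : Set Spor.BabyMonster)) ∣ 2 ^ 41 * 3 ^ 6 * 5 ^ 3 * 7 * 11 := by
  rw [w, card_centralizer_symm]
  exact BCent.card_cent_w

/-- 31 and 47 do not divide the order of the centralizer of the element of order 11 -/
theorem not_dvd_cent_u {l : ℕ} (hl : l.Prime) (h : l = 31 ∨ l = 47) :
    ¬ l ∣ Nat.card (centralizer ({u} : Set Spor.BabyMonster)) := by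
  have := CTwoTab.BInst.finite_B
  obtain ⟨χ, h1, h2, h3⟩ := BChar.exists_chi
  intro hd
  have h4 : χ u = ((4 : ℤ) : ℂ) := by
    rw [u, h3]
    have h5 := BTrace.tr11
    have h6 : LinearMap.trace ℚ BabyM.Conc.V ((BCent.uG : BabyM.Conc.V ≃ₗ[ℚ] BabyM.Conc.V) :
        BabyM.Conc.V →ₗ[ℚ] BabyM.Conc.V) = 4 := h5
    rw [h6]
    norm_num
  have h5 := dvd_value h1 h2 hl (by rcases h with rfl | rfl <;> norm_num)
    (by rw [card_b]; rcases h with rfl | rfl <;> norm_num) h4 hd
  rcases h with rfl | rfl
  · exact absurd h5 (by norm_num)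
  · exact absurd h5 (by norm_num)

theorem vz_w : VZ Spor.BabyMonster w := by
  obtain ⟨χ, h1, h2, h3⟩ := BChar.exists_chi
  refine ⟨⟨χ, h1⟩, fun α => ?_⟩
  obtain ⟨g, hg⟩ := Cfsg.Agent.CpAut.TwoInner.inner_b α
  have h4 : χ w = 0 := by
    rw [w, h3]
    have h6 : LinearMap.trace ℚ BabyM.Conc.V ((BCent.wG : BabyM.Conc.V ≃ₗ[ℚ] BabyM.Conc.V) :
        BabyM.Conc.V →ₗ[ℚ] BabyM.Conc.V) = 0 := BTrace.trzp
    rw [h6]
    norm_num
  rw [← h4]
  show χ (α w) = χ w
  rw [hg, MulAut.conj_apply]
  exact Characters.Core.isIrr_isClassFunction h1 w g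

/-- the class size of an element of order 31 or 47 is divisible by 2 and 11 -/
theorem dvd_index {l : ℕ} (h : l = 31 ∨ l = 47) {x : Spor.BabyMonster} (hx : orderOf x = l) :
    2 ∣ (centralizer ({x} : Set Spor.BabyMonster)).index ∧
      11 ∣ (centralizer ({x} : Set Spor.BabyMonster)).index := by
  have := CTwoTab.BInst.finite_B
  have hl : l.Prime := by rcases h with rfl | rfl <;> norm_num
  have hna : NA l Spor.BabyMonster := by
    rcases h with rfl | rfl
    · exact na_b_model_all (by norm_num) (by norm_num) (by norm_num) (by norm_num)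
    · exact na_b_model_all (by norm_num) (by norm_num) (by norm_num) (by norm_num)
  constructor
  · have h2 : ¬ 2 ∣ Nat.card (centralizer ({x} : Set Spor.BabyMonster)) := by
      intro hd
      have : Fact (Nat.Prime 2) := ⟨Nat.prime_two⟩
      obtain ⟨⟨s, hs⟩, hs2⟩ := exists_prime_orderOf_dvd_card' (G := ↥(centralizer ({x} : Set Spor.BabyMonster))) 2 hd
      rw [Subgroup.orderOf_mk] at hs2
      exact hna x s hx hs2 (mem_centralizer_singleton_iff.1 hs).symm
    refine dvd_index_of_not_dvd Nat.prime_two (k := 1) ?_ (by simpa using h2)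
    rw [card_b]
    norm_num
  · have : Fact (Nat.Prime 11) := ⟨by norm_num⟩
    refine dvd_index_of_elt (w := u) (j := 1) (by rw [orderOf_u, pow_one]) ?_
    intro g hg
    apply not_dvd_cent_u hl h
    have h2 : orderOf (g * x * g⁻¹) = l := by
      rw [← hx]
      exact (MulAut.conj g).orderOf_eq x
    rw [← h2]
    exact Subgroup.orderOf_dvd_natCard _ (mem_centralizer_singleton_iff.2 hg)

/-- the class size of `w` is divisible by all primes different from 2 and 11 -/
theorem dvd_index_w {p : ℕ} (hp : p.Prime) (hd : p ∣ Nat.card Spor.BabyMonster) (h2 : p ≠ 2) (h11 : p ≠ 11) :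
    p ∣ (centralizer ({w} : Set Spor.BabyMonster)).index := by
  have := CTwoTab.BInst.finite_B
  obtain ⟨e, he, -⟩ := exists_pair PairNum.b_valid hp (j := 1) le_rfl (by rwa [pow_one, ← card_b])
  have key : ∀ k : ℕ, p ^ k ∣ 4154781481226426191177580544000000 → ¬ p ^ k ∣ 2 ^ 41 * 3 ^ 6 * 5 ^ 3 * 7 * 11 →
      p ∣ (centralizer ({w} : Set Spor.BabyMonster)).index := fun k h3 h4 =>
    dvd_index_of_not_dvd hp (k := k) (by rwa [card_b]) fun h5 => h4 (h5.trans card_cent_w)
  simp only [List.mem_cons, Prod.mk.injEq, List.not_mem_nil, or_false] at he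
  rcases he with h | h | h | h | h | h | h | h | h | h | h
  · exact absurd h.1 h2
  · rw [h.1] at key ⊢; exact key 13 (by norm_num) (by norm_num)
  · rw [h.1] at key ⊢; exact key 6 (by norm_num) (by norm_num)
  · rw [h.1] at key ⊢; exact key 2 (by norm_num) (by norm_num)
  · exact absurd h.1 h11
  · rw [h.1] at key ⊢; exact key 1 (by norm_num) (by norm_num)
  · rw [h.1] at key ⊢; exact key 1 (by norm_num) (by norm_num)
  · rw [h.1] at key ⊢; exact key 1 (by norm_num) (by norm_num)
  · rw [h.1] at key ⊢; exact key 1 (by norm_num) (by norm_num)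
  · rw [h.1] at key ⊢; exact key 1 (by norm_num) (by norm_num)
  · rw [h.1] at key ⊢; exact key 1 (by norm_num) (by norm_num)

theorem pairRow_b (hK : ∀ (T : Type) [Group T] [Finite T] [IsSimpleGroup T], IsKnownSimple' T) :
    PairRow Spor.BabyMonster := by
  have := CTwoTab.BInst.finite_B
  have p31 : Nat.Prime 31 := by norm_num
  have p47 : Nat.Prime 47 := by norm_num
  obtain ⟨x31, h31⟩ := TriPair.exists_order (S := Spor.BabyMonster) PairNum.b_valid card_b p31 (by simp)
  obtain ⟨x47, h47⟩ := TriPair.exists_order (S := Spor.BabyMonster) PairNum.b_valid card_b p47 (by simp)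
  have hw : ∀ {l : ℕ} (_ : l = 31 ∨ l = 47) {x : Spor.BabyMonster} (_ : orderOf x = l) (p : ℕ), p.Prime →
      p ∣ Nat.card Spor.BabyMonster → p ∣ (centralizer ({x} : Set Spor.BabyMonster)).index ∨
      p ∣ (centralizer ({w} : Set Spor.BabyMonster)).index := by
    intro l h x hx p hp hd
    by_cases h2 : p = 2
    · rw [h2]; exact Or.inl (dvd_index h hx).1
    · by_cases h11 : p = 11
      · rw [h11]; exact Or.inl (dvd_index h hx).2
      · exact Or.inr (dvd_index_w hp hd h2 h11)
  refine TriPair.pairRow_of_three (HasDZ.vz Spor.B.hasDZ_31 (by rw [h31])) (HasDZ.vz Spor.B.hasDZ_47 (by rw [h47])) vz_w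
    (fun p hp hpS => ?_) (hw (Or.inl rfl) h31) (hw (Or.inr rfl) h47)
  exact TriPair.two_of_num hK OrdDiv.table PairNum.b_valid card_b p31 p47 hp (by norm_num) (by norm_num) (by norm_num)
    (by simp) (by simp) (fun g hg => not_adj_b ⟨g, hg⟩) ok_31_47 hpS h31 h47

/-- **`PairRow` for the Baby Monster**, with the classification as a hypothesis. -/
theorem pairRow_of (hK : ∀ (T : Type) [Group T] [Finite T] [IsSimpleGroup T], IsKnownSimple' T)
    {K : Type*} [Group K] (h : Spor.IsoB K) : PairRow K := by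
  obtain ⟨e⟩ := h
  exact (pairRow_b hK).mulEquiv e.symm

end Cfsg.Agent.H723.Pair.B
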