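import Cfsg.Agent.H723.Pair.Mono
import Cfsg.Agent.BabyM.InstMem

/-!
# Traces of elements of orders 3, 5, 7, 11 of the Baby Monster in degree 4371 (helper723)
-/

set_option autoImplicit false
set_option maxRecDepth 100000

namespace Cfsg.Agent.H723.Pair.BTrace

open Cfsg.Agent.BabyM.Conc Cfsg.Agent.BabyM Cfsg.Agent.Monster.VecSpace Cfsg.Agent.Monster.VecEngine

/-- the check for a word -/
theorem W_trace {v : List Ltr} (hm : allMono (v.map Ltr.prog) = true) {a b : ℕ} (ha : a < 2 ^ 13) (hb : b < 2 ^ 13)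
    (h : trChk U 13 (v.map Ltr.prog) a b = true) :
    LinearMap.trace ℚ V (W v : V →ₗ[ℚ] V) = (a : ℚ) - b :=
  trace_of_trChk U_lt (good_progs v) hm ha hb h

theorem W_eq_one {v : List Ltr} (hm : allMono (v.map Ltr.prog) = true)
    (h : checkFix (v.map Ltr.prog) (idx 13) = true) : W v = 1 :=
  wordE_eq_one U_lt (good_progs v) hm h

theorem W_pow (v : List Ltr) (n : ℕ) : W v ^ n = W (List.replicate n v).flatten := by
  induction n with
  | zero => rfl
  | succ n ih => rw [List.replicate_succ, List.flatten_cons, W_append, pow_succ, ih]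

theorem W_ne_one {v : List Ltr} {a : ℚ} (h : LinearMap.trace ℚ V (W v : V →ₗ[ℚ] V) = a) (ha : a ≠ 4371) : W v ≠ 1 := by
  intro h1
  rw [h1] at h
  apply ha
  rw [← h]
  show LinearMap.trace ℚ V (LinearMap.id) = 4371
  rw [LinearMap.trace_id, finrank_eq]
  norm_num

/-- an element of order `p` of the group of the model with trace `a` -/
theorem exists_of_word {p : ℕ} (hp : p.Prime) (v : List Ltr) {a : ℚ}
    (h : LinearMap.trace ℚ V (W v : V →ₗ[ℚ] V) = a) (ha : a ≠ 4371)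
    (hm : allMono ((List.replicate p v).flatten.map Ltr.prog) = true)
    (hf : checkFix ((List.replicate p v).flatten.map Ltr.prog) (idx 13) = true) :
    ∃ g : ↥Inst.M.G, orderOf g = p ∧ LinearMap.trace ℚ V ((g : V ≃ₗ[ℚ] V) : V →ₗ[ℚ] V) = a := by
  have : Fact p.Prime := ⟨hp⟩
  refine ⟨⟨W v, InstMem.W_mem_G v⟩, ?_, h⟩
  rw [Subgroup.orderOf_mk]
  refine orderOf_eq_prime ?_ (W_ne_one h ha)
  rw [W_pow]
  exact W_eq_one hm hf

theorem tr11 : LinearMap.trace ℚ V (W [.p] : V →ₗ[ℚ] V) = 4 := by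
  rw [W_trace (a := 4) (b := 0) (by decide +kernel) (by norm_num) (by norm_num) (by decide +kernel)]
  norm_num

theorem tr7 : LinearMap.trace ℚ V (W [.p, .h, .p, .h] : V →ₗ[ℚ] V) = 10 := by
  rw [W_trace (a := 10) (b := 0) (by decide +kernel) (by norm_num) (by norm_num) (by decide +kernel)]
  norm_num

theorem tr5 : LinearMap.trace ℚ V (W [.p4, .h, .p4, .h] : V →ₗ[ℚ] V) = 21 := by
  rw [W_trace (a := 21) (b := 0) (by decide +kernel) (by norm_num) (by norm_num) (by decide +kernel)]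
  norm_num

theorem tr3 : LinearMap.trace ℚ V (W [.h, .p5, .h, .p5, .h, .p5, .h, .p5] : V →ₗ[ℚ] V) = 78 := by
  rw [W_trace (a := 78) (b := 0) (by decide +kernel) (by norm_num) (by norm_num) (by decide +kernel)]
  norm_num

theorem trz : LinearMap.trace ℚ V (W [.z] : V →ₗ[ℚ] V) = 275 := by
  rw [W_trace (a := 2323) (b := 2048) (by decide +kernel) (by norm_num) (by norm_num) (by decide +kernel)]
  norm_num

theorem exists_11 : ∃ g : ↥Inst.M.G, orderOf g = 11 ∧
    LinearMap.trace ℚ V ((g : V ≃ₗ[ℚ] V) : V →ₗ[ℚ] V) = 4 :=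
  exists_of_word (by norm_num) _ tr11 (by norm_num) (by decide +kernel) (by decide +kernel)

theorem exists_7 : ∃ g : ↥Inst.M.G, orderOf g = 7 ∧
    LinearMap.trace ℚ V ((g : V ≃ₗ[ℚ] V) : V →ₗ[ℚ] V) = 10 :=
  exists_of_word (by norm_num) _ tr7 (by norm_num) (by decide +kernel) (by decide +kernel)

theorem exists_5 : ∃ g : ↥Inst.M.G, orderOf g = 5 ∧
    LinearMap.trace ℚ V ((g : V ≃ₗ[ℚ] V) : V →ₗ[ℚ] V) = 21 :=
  exists_of_word (by norm_num) _ tr5 (by norm_num) (by decide +kernel) (by decide +kernel)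

theorem exists_3 : ∃ g : ↥Inst.M.G, orderOf g = 3 ∧
    LinearMap.trace ℚ V ((g : V ≃ₗ[ℚ] V) : V →ₗ[ℚ] V) = 78 :=
  exists_of_word (by norm_num) _ tr3 (by norm_num) (by decide +kernel) (by decide +kernel)

end Cfsg.Agent.H723.Pair.BTrace
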