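import Cfsg.Agent.H723.Pair.BTrace

/-!
# An element of order 22 with trace 0 (helper723)
-/

set_option autoImplicit false
set_option maxRecDepth 100000

namespace Cfsg.Agent.H723.Pair.BTrace

open Cfsg.Agent.BabyM.Conc Cfsg.Agent.BabyM Cfsg.Agent.Monster.VecSpace Cfsg.Agent.Monster.VecEngine

theorem trzp : LinearMap.trace ℚ V (W [.z, .p] : V →ₗ[ℚ] V) = 0 := by
  rw [W_trace (a := 2) (b := 2) (by decide +kernel) (by norm_num) (by norm_num) (by decide +kernel)]
  norm_num

theorem comm_zp : W [.z, .p, .z, .p, .p, .p, .p, .p, .p, .p, .p, .p, .p] = 1 :=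
  W_eq_one (by decide +kernel) (by decide +kernel)

theorem p11 : W [.p] ^ 11 = 1 := by
  rw [W_pow]
  exact W_eq_one (by decide +kernel) (by decide +kernel)

theorem z2 : W [.z] ^ 2 = 1 := by
  rw [W_pow]
  exact W_eq_one (by decide +kernel) (by decide +kernel)

end Cfsg.Agent.H723.Pair.BTrace
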