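import Cfsg.Agent.Monster.VecSpace
import Cfsg.Agent.Monster.PlaneArith

/-!
# Traces of monomial words (helper723)

* `RM T` : every coordinate of `T f` is plus or minus a coordinate of `f`.
* `RM.trace_eq` : the trace of such a map from its value on one vector with distinct positive coordinates.
* `trChk` : the trace of a word of permutations and sign changes as a kernel computation.
-/

set_option autoImplicit false

namespace Cfsg.Agent.H723.Pair

open Cfsg.Agent.Lib.PermNet Cfsg.Agent.Monster.VecEngine Cfsg.Agent.Monster.VecSpace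
open Cfsg.Agent.Monster.PlaneArith

section abs

variable {ι : Type*}

/-- Every coordinate of `T f` is plus or minus a coordinate of `f`. -/
def RM (T : (ι → ℚ) ≃ₗ[ℚ] (ι → ℚ)) : Prop :=
  ∀ i, ∃ j, ∃ s : ℚ, (s = 1 ∨ s = -1) ∧ ∀ f, T f i = s * f j

theorem RM.one : RM (1 : (ι → ℚ) ≃ₗ[ℚ] (ι → ℚ)) := fun i => ⟨i, 1, Or.inl rfl, fun f => (one_mul (f i)).symm⟩

theorem RM.mul {A B : (ι → ℚ) ≃ₗ[ℚ] (ι → ℚ)} (hA : RM A) (hB : RM B) : RM (A * B) := by
  intro i
  obtain ⟨j, s, hs, h1⟩ := hA i
  obtain ⟨k, t, ht, h2⟩ := hB j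
  refine ⟨k, s * t, ?_, fun f => ?_⟩
  · rcases hs with rfl | rfl <;> rcases ht with rfl | rfl <;> norm_num
  · show A (B f) i = _
    rw [h1, h2, mul_assoc]

theorem RM.eq_one {T : (ι → ℚ) ≃ₗ[ℚ] (ι → ℚ)} (h : RM T) {v : ι → ℚ} (hpos : ∀ i, 0 < v i)
    (hinj : Function.Injective v) (hv : T v = v) : T = 1 := by
  apply LinearEquiv.ext
  intro f
  funext i
  obtain ⟨j, s, hs, h1⟩ := h i
  have h2 := h1 v
  rw [hv] at h2
  rw [h1]
  rcases hs with rfl | rfl
  · rw [one_mul] at h2
    rw [hinj h2, one_mul]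
    rfl
  · have h3 := hpos i
    have h4 := hpos j
    linarith

open Classical in
theorem RM.trace_eq [Fintype ι] {T : (ι → ℚ) ≃ₗ[ℚ] (ι → ℚ)} (h : RM T) {v : ι → ℚ}
    (hpos : ∀ i, 0 < v i) (hinj : Function.Injective v) :
    LinearMap.trace ℚ (ι → ℚ) (T : (ι → ℚ) →ₗ[ℚ] (ι → ℚ)) =
      ((Finset.univ.filter fun i => T v i = v i).card : ℚ) - ((Finset.univ.filter fun i => T v i = - v i).card : ℚ) := by
  have h0 : LinearMap.trace ℚ (ι → ℚ) (T : (ι → ℚ) →ₗ[ℚ] (ι → ℚ)) =
      ∑ i, T (Pi.single i 1) i := by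
    have h2 : LinearMap.trace ℚ (ι → ℚ) (T : (ι → ℚ) →ₗ[ℚ] (ι → ℚ)) =
        Matrix.trace (LinearMap.toMatrix' (T : (ι → ℚ) →ₗ[ℚ] (ι → ℚ))) := by
      rw [LinearMap.trace_eq_matrix_trace ℚ (Pi.basisFun ℚ ι)]
      congr 1
    rw [h2]
    unfold Matrix.trace
    refine Finset.sum_congr rfl fun i _ => ?_
    rw [Matrix.diag_apply, LinearMap.toMatrix'_apply]
    rfl
  rw [h0, Finset.card_eq_sum_ones, Finset.card_eq_sum_ones, Finset.sum_filter, Finset.sum_filter, Nat.cast_sum,
    Nat.cast_sum, ← Finset.sum_sub_distrib]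
  refine Finset.sum_congr rfl fun i _ => ?_
  obtain ⟨j, s, hs, h1⟩ := h i
  rw [h1 (Pi.single i 1)]
  have h2 := h1 v
  by_cases hj : j = i
  · subst hj
    have h3 := hpos j
    rw [Pi.single_eq_same, mul_one]
    rcases hs with rfl | rfl
    · rw [one_mul] at h2
      rw [if_pos h2, if_neg (by rw [h2]; intro h4; linarith)]
      norm_num
    · rw [neg_one_mul] at h2
      rw [if_pos h2, if_neg (by rw [h2]; intro h4; linarith)]
      norm_num
  · rw [Pi.single_eq_of_ne hj, mul_zero]
    have h3 : v j ≠ v i := fun h => hj (hinj h)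
    have h4 := hpos j
    have h5 := hpos i
    rw [if_neg, if_neg]
    · norm_num
    · rw [h2]
      rcases hs with rfl | rfl
      · intro h6; linarith
      · intro h6
        apply h3
        linarith
    · rw [h2]
      rcases hs with rfl | rfl
      · intro h6
        apply h3
        linarith
      · intro h6; linarith

end abs

/-! ### Monomial programs -/

/-- Only permutations and sign changes. -/
noncomputable def isMono (P : Prog) : Bool :=
  Prog.rec (motive := fun _ => Bool) true (fun _ _ ih => ih) (fun _ _ ih => ih) (fun _ _ _ => false)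
    (fun _ _ => false) (fun _ _ _ _ => false) P

theorem sem_mono {P : Prog} (h : isMono P = true) (i : ℕ) :
    ∃ j, ∃ s : ℚ, (s = 1 ∨ s = -1) ∧ ∀ f : ℕ → ℚ, sem ℚ P f i = s * f j := by
  induction P generalizing i with
  | nil => exact ⟨i, 1, Or.inl rfl, fun f => (one_mul (f i)).symm⟩
  | perm N P ih =>
    obtain ⟨j, s, hs, h1⟩ := ih h i
    refine ⟨N.perm j, s, hs, fun f => ?_⟩
    show sem ℚ P (lcomp ℚ N.perm f) i = _
    rw [h1]
    rfl
  | neg M P ih =>
    obtain ⟨j, s, hs, h1⟩ := ih h i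
    by_cases hM : M.testBit j = true
    · refine ⟨j, -s, ?_, fun f => ?_⟩
      · rcases hs with rfl | rfl <;> norm_num
      · show sem ℚ P (lneg ℚ M f) i = _
        rw [h1]
        show s * (if M.testBit j then - f j else f j) = _
        rw [if_pos hM]; ring
    · refine ⟨j, s, hs, fun f => ?_⟩
      show sem ℚ P (lneg ℚ M f) i = _
      rw [h1]
      show s * (if M.testBit j then - f j else f j) = _
      rw [if_neg hM]
  | dbl M P ih => exact absurd (show false = true from h) (by simp)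
  | half P ih => exact absurd (show false = true from h) (by simp)
  | bfly M d P ih => exact absurd (show false = true from h) (by simp)

theorem RM.semE {m U : ℕ} {w : Pl} {P : Prog} (hP : GoodW m U w P) (h : isMono P = true) : RM (semE ℚ U P) := by
  intro i
  obtain ⟨j, s, hs, h1⟩ := sem_mono h i.1
  have h2 : ∀ f : Lane U → ℚ, Cfsg.Agent.Monster.VecSpace.semE ℚ U P f i = s * ext ℚ U f j := by
    intro f
    rw [semE_apply ℚ two_ne_zero hP]
    exact h1 _
  by_cases hj : U.testBit j = true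
  · refine ⟨⟨j, hj⟩, s, hs, fun f => ?_⟩
    rw [h2, ext_apply_of_true ℚ hj]
  · exfalso
    obtain ⟨f, hf⟩ := (Cfsg.Agent.Monster.VecSpace.semE ℚ U P).surjective (fun _ => (1 : ℚ))
    have h3 := h2 f
    rw [hf, ext_apply_of_not ℚ hj, mul_zero] at h3
    exact one_ne_zero h3

/-- Only permutations and sign changes. -/
noncomputable def allMono (w : List Prog) : Bool :=
  List.rec (motive := fun _ => Bool) true (fun P _ ih => and (isMono P) ih) w

theorem RM.wordE {m U : ℕ} {w : Pl} {l : List Prog} (hl : ∀ P ∈ l, GoodW m U w P) (h : allMono l = true) :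
    RM (wordE ℚ U l) := by
  induction l with
  | nil => exact RM.one
  | cons P l ih =>
    have h' : and (isMono P) (allMono l) = true := h
    rw [Bool.and_eq_true] at h'
    rw [wordE_cons]
    exact (ih (fun Q hQ => hl Q (by simp [hQ])) h'.2).mul (RM.semE (hl P (by simp)) h'.1)

/-! ### The vector of the numbers of the lanes -/

/-- The planes `b, b + 1, …` of the numbers `< 2 ^ k` (`j` of them), and `2 ^ k` on top. -/
noncomputable def idxP (k : ℕ) (j : ℕ) : ℕ → Pl :=
  Nat.rec (motive := fun _ => ℕ → Pl) (fun _ => seqP (full (Nat.pow 2 k)) fun u => .cons u (.sgn 0))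
    (fun _ ih b => seqP (plane k b) fun u => .cons u (ih (Nat.succ b))) j

theorem val_idxP (k j b i : ℕ) (hi : i < 2 ^ k) (hb : b + j = k) :
    val (idxP k j b) i = ((i >>> b : ℕ) : ℤ) + 2 ^ j := by
  induction j generalizing b with
  | zero =>
    show val (seqP (full (Nat.pow 2 k)) fun u => .cons u (.sgn 0)) i = _
    rw [seqP_eq, val_cons, val_sgn]
    have h1 : bt (full (Nat.pow 2 k)) i = 1 := bt_full _ _ hi
    have h2 : i >>> b = 0 := by
      rw [Nat.shiftRight_eq_div_pow, Nat.div_eq_of_lt]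
      rw [add_zero] at hb
      rw [hb]; exact hi
    rw [h1, h2, bt_zero]
    norm_num
  | succ j ih =>
    show val (seqP (plane k b) fun u => .cons u (idxP k j (b + 1))) i = _
    rw [seqP_eq, val_cons, ih (b + 1) (by omega)]
    have h1 : bt (plane k b) i = ((i >>> b % 2 : ℕ) : ℤ) := by
      unfold bt
      rw [testBit_plane k b i hi (by omega), Nat.testBit_eq_decide_div_mod_eq, Nat.shiftRight_eq_div_pow]
      by_cases h : i / 2 ^ b % 2 = 1
      · rw [if_pos (by simpa using h), h]; rfl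
      · rw [if_neg (by simpa using h)]
        have : i / 2 ^ b % 2 = 0 := by omega
        rw [this]; rfl
    rw [h1]
    have h2 : i >>> (b + 1) = (i >>> b) / 2 := by
      rw [Nat.shiftRight_succ]
    rw [h2, pow_succ]
    have h3 := Nat.mod_add_div (i >>> b) 2
    have h4 : ((i >>> b % 2 : ℕ) : ℤ) + 2 * (((i >>> b) / 2 : ℕ) : ℤ) = ((i >>> b : ℕ) : ℤ) := by exact_mod_cast h3
    linarith

/-- The vector with the entry `i + 2 ^ k` in the lane `i`. -/
noncomputable def idx (k : ℕ) : Pl := idxP k k 0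

theorem val_idx {k i : ℕ} (hi : i < 2 ^ k) : val (idx k) i = (i : ℤ) + 2 ^ k := by
  show val (idxP k k 0) i = _
  rw [val_idxP k k 0 i hi (by omega)]
  simp

section

variable {k U : ℕ} (hU : U < 2 ^ 2 ^ k)
include hU

theorem lane_lt (i : Lane U) : i.1 < 2 ^ k := by
  by_contra h
  have h1 : U.testBit i.1 = false := Nat.testBit_eq_false_of_lt (lt_of_lt_of_le hU
    (Nat.pow_le_pow_right (by norm_num) (not_lt.1 h)))
  rw [i.2] at h1
  exact absurd h1 (by simp)

theorem idx_pos (i : Lane U) : 0 < vecU ℚ U (idx k) i := by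
  show (0 : ℚ) < ((val (idx k) i.1 : ℤ) : ℚ)
  rw [val_idx (lane_lt hU i)]
  positivity

theorem idx_inj : Function.Injective (vecU ℚ U (idx k)) := by
  intro i j h
  have h1 : ((val (idx k) i.1 : ℤ) : ℚ) = ((val (idx k) j.1 : ℤ) : ℚ) := h
  rw [val_idx (lane_lt hU i), val_idx (lane_lt hU j)] at h1
  apply Subtype.ext
  have h2 : (i.1 : ℤ) + 2 ^ k = (j.1 : ℤ) + 2 ^ k := by exact_mod_cast h1
  omega

/-- A word of permutations and sign changes which fixes the vector `idx`. -/
theorem wordE_eq_one {m : ℕ} {w : Pl} {l : List Prog} (hl : ∀ P ∈ l, GoodW m U w P) (hm : allMono l = true)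
    (h : checkFix l (idx k) = true) : wordE ℚ U l = 1 :=
  (RM.wordE hl hm).eq_one (idx_pos hU) (idx_inj hU) (checkFixE_sound ℚ two_ne_zero hl h)

end

/-- The numbers of lanes fixed with sign plus (`a`) and minus (`b`). -/
noncomputable def trChk (U k : ℕ) (l : List Prog) (a b : ℕ) : Bool :=
  runL l (idx k) fun y =>
    and (cardIs k k a (Nat.land U (eqm (Nat.pow 2 k) y (idx k))))
      (cardIs k k b (Nat.land U (eqm (Nat.pow 2 k) y (neg (full (Nat.pow 2 k)) (idx k)))))

theorem card_lane_eq {U k a M : ℕ} (hU : U < 2 ^ 2 ^ k) (p : Lane U → Prop) [DecidablePred p] (ha : a < 2 ^ k)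
    (hM : ∀ i : Lane U, M.testBit i.1 = true ↔ p i) (h : cardIs k k a (Nat.land U M) = true) :
    (Finset.univ.filter p).card = a := by
  rw [← cardIs_sound ha h]
  refine Finset.card_bij (fun i _ => i.1) ?_ ?_ ?_
  · intro i hi
    rw [Finset.mem_filter] at hi
    rw [Finset.mem_filter, Finset.mem_range]
    refine ⟨lane_lt hU i, ?_⟩
    show (U &&& M).testBit i.1 = true
    rw [Nat.testBit_and, i.2, (hM i).2 hi.2]
    rfl
  · intro i _ j _ h1
    exact Subtype.ext h1
  · intro n hn
    rw [Finset.mem_filter] at hn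
    have h2 : (U &&& M).testBit n = true := hn.2
    rw [Nat.testBit_and, Bool.and_eq_true] at h2
    exact ⟨⟨n, h2.1⟩, Finset.mem_filter.2 ⟨Finset.mem_univ _, (hM _).1 h2.2⟩, rfl⟩

/-- **The trace of a monomial word.** -/
theorem trace_of_trChk {U k : ℕ} (hU : U < 2 ^ 2 ^ k) {m : ℕ} {w : Pl} {l : List Prog}
    (hl : ∀ P ∈ l, GoodW m U w P) (hm : allMono l = true) {a b : ℕ} (ha : a < 2 ^ k) (hb : b < 2 ^ k)
    (h : trChk U k l a b = true) :
    LinearMap.trace ℚ (Lane U → ℚ) (wordE ℚ U l : (Lane U → ℚ) →ₗ[ℚ] (Lane U → ℚ)) = (a : ℚ) - b := by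
  classical
  obtain ⟨y, hy, hk⟩ := runL_sound ℚ two_ne_zero l (fun P hP => (hl P hP).pres.ok) (idx k) _ h
  rw [Bool.and_eq_true] at hk
  have h1 : wordE ℚ U l (vecU ℚ U (idx k)) = vecU ℚ U y := by
    rw [wordE_apply ℚ two_ne_zero hl, vecU_eq, ← res_semL ℚ (fun P hP => (hl P hP).pres), ← hy]
    rfl
  rw [(RM.wordE hl hm).trace_eq (idx_pos hU) (idx_inj hU), h1]
  have e1 : (Finset.univ.filter fun i => vecU ℚ U y i = vecU ℚ U (idx k) i).card = a := by
    refine card_lane_eq hU _ ha (fun i => ?_) hk.1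
    rw [testBit_eqm]
    constructor
    · rintro ⟨-, h2⟩
      show ((val y i.1 : ℤ) : ℚ) = ((val (idx k) i.1 : ℤ) : ℚ)
      rw [h2]
    · intro h2
      have h3 : ((val y i.1 : ℤ) : ℚ) = ((val (idx k) i.1 : ℤ) : ℚ) := h2
      exact ⟨lane_lt hU i, by exact_mod_cast h3⟩
  have e2 : (Finset.univ.filter fun i => vecU ℚ U y i = - vecU ℚ U (idx k) i).card = b := by
    refine card_lane_eq hU _ hb (fun i => ?_) hk.2
    have h0 : val (neg (full (Nat.pow 2 k)) (idx k)) i.1 = - val (idx k) i.1 := by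
      rw [val_neg, if_pos]
      rw [testBit_full]
      simpa using lane_lt hU i
    rw [testBit_eqm, h0]
    constructor
    · rintro ⟨-, h2⟩
      show ((val y i.1 : ℤ) : ℚ) = - ((val (idx k) i.1 : ℤ) : ℚ)
      rw [h2]
      push_cast
      rfl
    · intro h2
      have h3 : ((val y i.1 : ℤ) : ℚ) = - ((val (idx k) i.1 : ℤ) : ℚ) := h2
      exact ⟨lane_lt hU i, by exact_mod_cast h3⟩
  rw [e1, e2]

end Cfsg.Agent.H723.Pair
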